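import Mathlib
import Groth.Prelude.Def_W4c2azumayainvolQEt

/-! Commutative rings with involution: primes over the fixed ring and quadratic etale criteria. -/

set_option autoImplicit false

universe u v w

open TensorProduct

namespace Groth.Agent.RInvQ

variable {S : Type u} {R : Type v} [CommRing S] [CommRing R] [Algebra S R] {lam : R ≃+* R}
  (hlam : Function.Involutive lam) (hS : RInv.IsFixedRing S R lam)

include hS in
theorem lam_algebraMap (s : S) : lam (algebraMap S R s) = algebraMap S R s := (hS.2 _).2 ⟨s, rfl⟩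

include hlam hS in
theorem exists_sum (r : R) : ∃ s, algebraMap S R s = r + lam r :=
  (hS.2 _).1 (by rw [map_add, hlam, add_comm])

include hlam hS in
theorem exists_prod (r : R) : ∃ s, algebraMap S R s = r * lam r :=
  (hS.2 _).1 (by rw [map_mul, hlam, mul_comm])

include hlam hS in
theorem isIntegral : Algebra.IsIntegral S R := ⟨fun r => by
  obtain ⟨a, ha⟩ := exists_sum hlam hS r
  obtain ⟨b, hb⟩ := exists_prod hlam hS r
  refine ⟨Polynomial.X ^ 2 - Polynomial.C a * Polynomial.X + Polynomial.C b, ?_, ?_⟩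
  · monicity!
  · simp [Polynomial.eval₂_add, Polynomial.eval₂_sub, ha, hb]
    ring⟩

/-- The involution as an algebra automorphism. -/
def lamAlg (hS : RInv.IsFixedRing S R lam) : R ≃ₐ[S] R := AlgEquiv.ofRingEquiv (f := lam) (lam_algebraMap hS)

include hlam hS in
theorem quadEtale_of_unit (h : ∃ r : R, IsUnit (r - lam r)) : RInv.IsQuadEtale S R := by
  obtain ⟨r, v, hv⟩ := h
  let θ : (Fin 2 → S) →ₗ[S] R := Fintype.linearCombination S ![(1 : R), r]
  have hθ : ∀ f : Fin 2 → S, θ f = algebraMap S R (f 0) + algebraMap S R (f 1) * r := fun f => by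
    simp [θ, Fintype.linearCombination_apply, Fin.sum_univ_two, Algebra.smul_def]
  have hlv : lam (v : R) = -(v : R) := by rw [hv, map_sub, hlam, neg_sub]
  have hinj : Function.Injective θ := (injective_iff_map_eq_zero θ).mpr fun f hf => by
    rw [hθ] at hf
    have h1 := congrArg lam hf
    rw [map_add, map_mul, lam_algebraMap hS, lam_algebraMap hS, map_zero] at h1
    have h2 : algebraMap S R (f 1) * (v : R) = 0 := by rw [hv]; linear_combination hf - h1
    rw [Units.mul_left_eq_zero] at h2
    rw [h2, zero_mul, add_zero] at hf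
    funext i
    fin_cases i
    · exact hS.1 (hf.trans (map_zero _).symm)
    · exact hS.1 (h2.trans (map_zero _).symm)
  have hsurj : Function.Surjective θ := fun x => by
    have hlvi : lam (↑v⁻¹ : R) = -(↑v⁻¹ : R) := by
      apply v.isUnit.mul_left_cancel
      rw [show (v : R) * -(↑v⁻¹ : R) = -1 by rw [mul_neg, Units.mul_inv],
        show (v : R) = -lam (v : R) by rw [hlv, neg_neg], neg_mul, ← map_mul, Units.mul_inv, map_one]
    obtain ⟨b, hb⟩ := (hS.2 ((x - lam x) * ↑v⁻¹)).1 (by rw [map_mul, map_sub, hlam, hlvi]; ring)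
    obtain ⟨a, ha⟩ := (hS.2 (x - algebraMap S R b * r)).1 (by
      rw [map_sub, map_mul, lam_algebraMap hS, hb]
      have hr : (x - lam x) * ↑v⁻¹ * (r - lam r) = x - lam x := by
        rw [← hv, mul_assoc, Units.inv_mul, mul_one]
      linear_combination hr)
    exact ⟨![a, b], by rw [hθ]; simp [ha]⟩
  let e := LinearEquiv.ofBijective θ ⟨hinj, hsurj⟩
  haveI : Module.Free S R := Module.Free.of_equiv e
  haveI : Module.Finite S R := Module.Finite.equiv e
  refine ⟨inferInstance, inferInstance, ⟨subsingleton_of_forall_eq 0 fun ω => ?_⟩, fun p => ?_⟩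
  · have hD : KaehlerDifferential.D S R r = 0 := by
      obtain ⟨t, ht⟩ := exists_sum hlam hS r
      obtain ⟨n, hn⟩ := exists_prod hlam hS r
      have h0 : algebraMap S R t * r - r * r = algebraMap S R n := by rw [ht, hn]; ring
      have h1 := congrArg (KaehlerDifferential.D S R) h0
      rw [map_sub, Derivation.map_algebraMap, Derivation.leibniz, Derivation.map_algebraMap,
        Derivation.leibniz, smul_zero, add_zero, ← add_smul, ← sub_smul, ht,
        show r + lam r - (r + r) = -(v : R) by rw [hv]; ring, neg_smul, neg_eq_zero] at h1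
      exact (v.isUnit.smul_eq_zero).1 h1
    have hall : ∀ x, KaehlerDifferential.D S R x = 0 := fun x => by
      obtain ⟨f, rfl⟩ := hsurj x
      rw [hθ, map_add, Derivation.map_algebraMap, Derivation.leibniz, Derivation.map_algebraMap, hD]
      simp
    have : ω ∈ Submodule.span R (Set.range (KaehlerDifferential.D S R)) := by
      rw [KaehlerDifferential.span_range_derivation]; trivial
    induction this using Submodule.span_induction with
    | mem y hy => obtain ⟨x, rfl⟩ := hy; exact hall x
    | zero => rfl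
    | add a b _ _ ha hb => rw [ha, hb, add_zero]
    | smul c a _ ha => rw [ha, smul_zero]
  · haveI : Nontrivial S := p.nontrivial
    rw [Module.rankAtStalk_eq_finrank_of_free, Pi.natCast_apply, ← e.finrank_eq]
    simp

section Local

include hlam hS in
/-- Primes over the same prime of the fixed ring are conjugate. -/
theorem eq_or_eq (q q' : Ideal R) [q.IsPrime] [q'.IsPrime]
    (h : q.comap (algebraMap S R) = q'.comap (algebraMap S R)) : q' = q ∨ q' = q.comap lam := by
  haveI := isIntegral hlam hS
  have hsub : (q' : Set R) ⊆ (q : Set R) ∪ (q.comap lam : Ideal R) := fun x hx => by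
    obtain ⟨s, hs⟩ := exists_prod hlam hS x
    have : algebraMap S R s ∈ q := by
      have : s ∈ q'.comap (algebraMap S R) := by
        rw [Ideal.mem_comap, hs]; exact q'.mul_mem_right _ hx
      rwa [← h] at this
    rw [hs] at this
    exact (Ideal.IsPrime.mem_or_mem ‹_› this).imp id fun hh => hh
  have hcomap : (q.comap lam).comap (algebraMap S R) = q.comap (algebraMap S R) := by
    ext s; rw [Ideal.mem_comap, Ideal.mem_comap, Ideal.mem_comap, lam_algebraMap hS]
  rcases (Ideal.subset_union.1 hsub) with hle | hle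
  · left
    by_contra hne
    exact (Ideal.IsIntegral.comap_lt_comap (R := S) (lt_of_le_of_ne hle hne)).ne h.symm
  · right
    by_contra hne
    exact (Ideal.IsIntegral.comap_lt_comap (R := S) (lt_of_le_of_ne hle hne)).ne (hcomap.trans h).symm

include hlam hS in
/-- A prime with a moved element yields an element whose difference avoids all primes over the same point. -/
theorem exists_diff_notMem (q : Ideal R) [q.IsPrime] {r : R} (hr : lam r - r ∉ q) :
    ∃ a : R, ∀ q' : Ideal R, q'.IsPrime → q'.comap (algebraMap S R) = q.comap (algebraMap S R) →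
      a - lam a ∉ q' := by
  by_cases hq : q.comap lam = q
  · refine ⟨r, fun q' hq'p hq' => ?_⟩
    haveI := hq'p
    rcases eq_or_eq hlam hS q q' hq'.symm with rfl | rfl
    · exact fun hh => hr (by rw [← neg_sub]; exact q'.neg_mem hh)
    · rw [hq]; exact fun hh => hr (by rw [← neg_sub]; exact q.neg_mem hh)
  · obtain ⟨a, ha, ha'⟩ : ∃ a, a ∈ q ∧ lam a ∉ q := by
      by_contra hc
      push_neg at hc
      refine hq (le_antisymm (fun x hx => ?_) fun x hx => hc x hx)
      have := hc _ (Ideal.mem_comap.1 hx)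
      rwa [hlam] at this
    refine ⟨a, fun q' hq'p hq' => ?_⟩
    haveI := hq'p
    rcases eq_or_eq hlam hS q q' hq'.symm with rfl | rfl
    · exact fun hh => ha' (by simpa using q'.sub_mem ha hh)
    · intro hh
      rw [Ideal.mem_comap, map_sub, hlam] at hh
      exact ha' (by simpa using q.add_mem hh ha)

variable [IsLocalRing S]

omit [IsLocalRing S] in
include hlam hS in
theorem isMaximal_comap (M : Ideal R) [M.IsMaximal] : (M.comap (algebraMap S R)).IsMaximal := by
  haveI := isIntegral hlam hS
  exact Ideal.isMaximal_comap_of_isIntegral_of_isMaximal M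

include hlam hS in
theorem comap_eq (M : Ideal R) [M.IsMaximal] : M.comap (algebraMap S R) = IsLocalRing.maximalIdeal S :=
  IsLocalRing.eq_maximalIdeal (isMaximal_comap hlam hS M)

include hlam hS in
theorem exists_unit_diff {r : R} (hr : lam r - r ∉ Ring.jacobson R) : ∃ a : R, IsUnit (a - lam a) := by
  rw [Ring.jacobson_eq_sInf_isMaximal, Submodule.mem_sInf] at hr
  push_neg at hr
  obtain ⟨(M : Ideal R), hM, hrM⟩ := hr
  haveI : Ideal.IsMaximal M := hM
  obtain ⟨a, ha⟩ := exists_diff_notMem hlam hS M hrM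
  refine ⟨a, ?_⟩
  by_contra hu
  obtain ⟨M', hM', haM'⟩ := exists_max_ideal_of_mem_nonunits hu
  exact ha M' hM'.isPrime (by rw [comap_eq hlam hS M', comap_eq hlam hS M]) haM'

include hlam hS in
theorem isLocalRing_of_forall (h : ∀ r : R, lam r - r ∈ Ring.jacobson R) : IsLocalRing R := by
  haveI : Nontrivial R := hS.1.nontrivial
  obtain ⟨M, hM⟩ := Ideal.exists_maximal R
  have hMl : M.comap lam = M := by
    have key : ∀ x, lam x - x ∈ M := fun x => by
      have := h x
      rw [Ring.jacobson_eq_sInf_isMaximal, Submodule.mem_sInf] at this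
      exact this M hM
    ext x
    rw [Ideal.mem_comap]
    exact ⟨fun hx => by simpa using M.sub_mem hx (key x), fun hx => by simpa using M.add_mem (key x) hx⟩
  refine IsLocalRing.of_unique_max_ideal ⟨M, hM, fun N hN => ?_⟩
  haveI := hM; haveI : N.IsMaximal := hN
  rcases eq_or_eq hlam hS M N (by rw [comap_eq hlam hS M, comap_eq hlam hS N]) with e | e
  · exact e
  · rw [e, hMl]

theorem jacobson_eq [Module.Finite S R] [Algebra.FormallyUnramified S R] :
    Ring.jacobson R = (IsLocalRing.maximalIdeal S).map (algebraMap S R) := by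
  let m := IsLocalRing.maximalIdeal S
  let I := m.map (algebraMap S R)
  refine le_antisymm ?_ ?_
  · letI : Field (S ⧸ m) := Ideal.Quotient.field m
    haveI : Algebra.FormallyUnramified S (R ⧸ I) := Algebra.FormallyUnramified.of_surjective (Ideal.Quotient.mkₐ S I) (Ideal.Quotient.mk_surjective)
    haveI : Algebra.FormallyUnramified (S ⧸ m) (R ⧸ I) := Algebra.FormallyUnramified.of_restrictScalars S (S ⧸ m) (R ⧸ I)
    haveI : Module.Finite S (R ⧸ I) := inferInstance
    haveI : Module.Finite (S ⧸ m) (R ⧸ I) := Module.Finite.of_restrictScalars_finite S (S ⧸ m) (R ⧸ I)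
    haveI : IsReduced (R ⧸ I) := Algebra.FormallyUnramified.isReduced_of_field (S ⧸ m) (R ⧸ I)
    haveI : IsArtinianRing (R ⧸ I) := isArtinian_of_tower (S ⧸ m) inferInstance
    intro x hx
    rw [Ring.jacobson_eq_sInf_isMaximal, Submodule.mem_sInf] at hx
    rw [← Ideal.Quotient.eq_zero_iff_mem]
    refine IsReduced.eq_zero _ ?_
    rw [← mem_nilradical, nilradical_eq_sInf, Submodule.mem_sInf]
    intro (P : Ideal (R ⧸ I)) hP
    haveI : Ideal.IsPrime P := hP
    haveI : Ideal.IsMaximal P := inferInstance
    haveI : (Ideal.comap (Ideal.Quotient.mk I) P).IsMaximal := Ideal.comap_isMaximal_of_surjective _ Ideal.Quotient.mk_surjective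
    exact hx (Ideal.comap (Ideal.Quotient.mk I) P) ‹_›
  · rw [Ring.jacobson_eq_sInf_isMaximal]
    refine le_sInf fun M hM => Ideal.map_le_iff_le_comap.2 ?_
    haveI : M.IsMaximal := hM
    haveI : Algebra.IsIntegral S R := Algebra.IsIntegral.of_finite S R
    exact (IsLocalRing.eq_maximalIdeal (Ideal.isMaximal_comap_of_isIntegral_of_isMaximal M)).ge

include hlam hS in
theorem not_quadEtale (h : ∀ r : R, lam r - r ∈ Ring.jacobson R) : ¬ RInv.IsQuadEtale S R := by
  rintro ⟨hfin, hproj, hunr, hrank⟩
  haveI := hfin; haveI := hproj; haveI := hunr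
  haveI := isLocalRing_of_forall hlam hS h
  have hJ : IsLocalRing.maximalIdeal R = (IsLocalRing.maximalIdeal S).map (algebraMap S R) := by
    rw [← jacobson_eq, IsLocalRing.ringJacobson_eq_maximalIdeal]
  haveI : IsLocalHom (algebraMap S R) := ⟨fun s hs => by
    by_contra hns
    exact (IsLocalRing.mem_maximalIdeal _).1 (hJ.ge (Ideal.mem_map_of_mem _ ((IsLocalRing.mem_maximalIdeal _).2 hns))) hs⟩
  have hres : ∀ x : R, IsLocalRing.residue R (lam x) = IsLocalRing.residue R x := fun x =>
    (Ideal.Quotient.mk_eq_mk_iff_sub_mem _ _).2 (IsLocalRing.ringJacobson_eq_maximalIdeal (R := R) ▸ h x)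
  have hsurj : Function.Surjective (algebraMap (IsLocalRing.ResidueField S) (IsLocalRing.ResidueField R)) := by
    by_cases h2 : (2 : IsLocalRing.ResidueField S) = 0
    · haveI : CharP (IsLocalRing.ResidueField S) 2 := CharTwo.of_one_ne_zero_of_two_eq_zero one_ne_zero h2
      haveI : ExpChar (IsLocalRing.ResidueField S) 2 := ExpChar.prime Nat.prime_two
      haveI : Module.Finite (IsLocalRing.ResidueField S) (IsLocalRing.ResidueField R) :=
        Module.Finite.of_restrictScalars_finite S _ _
      haveI : Algebra.FormallyUnramified S (IsLocalRing.ResidueField R) :=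
        Algebra.FormallyUnramified.of_surjective (IsScalarTower.toAlgHom S R (IsLocalRing.ResidueField R))
          IsLocalRing.residue_surjective
      haveI : Algebra.FormallyUnramified (IsLocalRing.ResidueField S) (IsLocalRing.ResidueField R) :=
        Algebra.FormallyUnramified.of_restrictScalars S _ _
      haveI : Algebra.IsSeparable (IsLocalRing.ResidueField S) (IsLocalRing.ResidueField R) :=
        Algebra.FormallyUnramified.isSeparable _ _
      haveI : IsPurelyInseparable (IsLocalRing.ResidueField S) (IsLocalRing.ResidueField R) := by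
        rw [isPurelyInseparable_iff_pow_mem _ 2]
        intro y
        obtain ⟨x, rfl⟩ := IsLocalRing.residue_surjective y
        obtain ⟨n, hn⟩ := exists_prod hlam hS x
        refine ⟨1, IsLocalRing.residue S n, ?_⟩
        rw [IsLocalRing.ResidueField.algebraMap_residue, hn, map_mul, hres, pow_one, pow_two]
      exact IsPurelyInseparable.surjective_algebraMap_of_isSeparable _ _
    · intro y
      obtain ⟨x, rfl⟩ := IsLocalRing.residue_surjective y
      obtain ⟨t, ht⟩ := exists_sum hlam hS x
      refine ⟨IsLocalRing.residue S t / 2, ?_⟩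
      rw [map_div₀, IsLocalRing.ResidueField.algebraMap_residue, ht, map_add, hres, map_ofNat,
        div_eq_iff (by rw [← map_ofNat (algebraMap (IsLocalRing.ResidueField S) (IsLocalRing.ResidueField R))]; exact fun h0 => h2 ((algebraMap _ _).injective (h0.trans (map_zero _).symm)))]
      ring
  have hle : (⊤ : Submodule S R) ≤ LinearMap.range (Algebra.linearMap S R) ⊔
      IsLocalRing.maximalIdeal S • (⊤ : Submodule S R) := fun x _ => by
    obtain ⟨c, hc⟩ := hsurj (IsLocalRing.residue R x)
    obtain ⟨s, rfl⟩ := IsLocalRing.residue_surjective c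
    rw [IsLocalRing.ResidueField.algebraMap_residue] at hc
    replace hc := hJ.le ((Ideal.Quotient.mk_eq_mk_iff_sub_mem _ _).1 hc)
    rw [show x = algebraMap S R s + (x - algebraMap S R s) by ring]
    refine Submodule.add_mem_sup ⟨s, rfl⟩ ?_
    rw [Ideal.smul_top_eq_map, Submodule.restrictScalars_mem, ← neg_sub]
    exact neg_mem hc
  have htop := Submodule.le_of_le_smul_of_le_jacobson_bot Module.Finite.fg_top (IsLocalRing.maximalIdeal_le_jacobson _) hle
  let e := LinearEquiv.ofBijective (Algebra.linearMap S R) ⟨hS.1, fun x => htop (Submodule.mem_top (x := x))⟩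
  have h1 := hrank ⟨IsLocalRing.maximalIdeal S, inferInstance⟩
  haveI : Module.Free S R := Module.Free.of_equiv e
  rw [Module.rankAtStalk_eq_finrank_of_free, Pi.natCast_apply, ← e.finrank_eq] at h1
  simp at h1

include hlam hS in
theorem exists_unit_diff_of_quadEtale (hq : RInv.IsQuadEtale S R) : ∃ a : R, IsUnit (a - lam a) := by
  by_contra h
  exact not_quadEtale hlam hS (fun r => by_contra fun hr => h (exists_unit_diff hlam hS hr)) hq

include hlam hS in
theorem hilbert90 (hq : RInv.IsQuadEtale S R) (r : Rˣ) (hr : lam r * r = 1) :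
    ∃ a : Rˣ, (r : R) = (a⁻¹ : Rˣ) * lam a := by
  suffices ∃ x : R, IsUnit (x + lam r * lam x) by
    obtain ⟨x, a, ha⟩ := this
    refine ⟨a, ?_⟩
    rw [eq_comm, Units.inv_mul_eq_iff_eq_mul, ha, map_add, map_mul, hlam, hlam]
    linear_combination (-(lam x)) * hr
  haveI := isIntegral hlam hS
  haveI : Nontrivial R := hS.1.nontrivial
  obtain ⟨z, hz⟩ := exists_unit_diff_of_quadEtale hlam hS hq
  obtain ⟨M, hM⟩ := Ideal.exists_maximal R
  haveI := hM
  have hcase : ∀ N : Ideal R, N.IsMaximal → N = M ∨ N = M.comap lam := fun N hN => by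
    haveI := hN
    exact eq_or_eq hlam hS M N (by rw [comap_eq hlam hS M, comap_eq hlam hS N])
  have hrl : IsUnit (lam (r : R)) := r.isUnit.map lam
  by_cases hMl : M.comap lam = M
  · by_cases h1 : IsUnit (1 + lam (r : R))
    · exact ⟨1, by rwa [map_one, mul_one]⟩
    · refine ⟨z, ?_⟩
      by_contra hu
      obtain ⟨N, hN, hNu⟩ := exists_max_ideal_of_mem_nonunits hu
      obtain ⟨N', hN', hNr⟩ := exists_max_ideal_of_mem_nonunits h1
      have e1 : N = M := (hcase N hN).elim id fun h => h.trans hMl
      have e2 : N' = M := (hcase N' hN').elim id fun h => h.trans hMl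
      subst e1
      rw [e2] at hNr
      refine hN.ne_top (Ideal.eq_top_of_isUnit_mem _ ?_ hz)
      have := N.sub_mem hNu (N.mul_mem_right (lam z) hNr)
      rwa [show z + lam r * lam z - (1 + lam r) * lam z = z - lam z by ring] at this
  · obtain ⟨a, ha, ha'⟩ : ∃ a, a ∈ M ∧ lam a ∉ M := by
      by_contra hc
      push_neg at hc
      refine hMl (le_antisymm (fun x hx => ?_) fun x hx => hc x hx)
      have := hc _ (Ideal.mem_comap.1 hx)
      rwa [hlam] at this
    refine ⟨a, ?_⟩
    by_contra hu
    obtain ⟨N, hN, hNu⟩ := exists_max_ideal_of_mem_nonunits hu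
    rcases hcase N hN with rfl | rfl
    · have := N.sub_mem hNu ha
      rw [add_sub_cancel_left] at this
      rcases hN.isPrime.mem_or_mem this with h | h
      · exact hN.ne_top (Ideal.eq_top_of_isUnit_mem _ h hrl)
      · exact ha' h
    · rw [Ideal.mem_comap, map_add, map_mul, hlam, hlam] at hNu
      have := M.sub_mem hNu (M.mul_mem_left (r : R) ha)
      rw [add_sub_cancel_right] at this
      exact ha' this

include hlam hS in
theorem jacobson_sq_le (h2 : IsUnit (2 : S)) :
    (Ring.jacobson R) ^ 2 ≤ (IsLocalRing.maximalIdeal S).map (algebraMap S R) := by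
  haveI := isIntegral hlam hS
  haveI : Nontrivial R := hS.1.nontrivial
  obtain ⟨M₀, hM₀⟩ := Ideal.exists_maximal R
  have hlamJ : ∀ x ∈ Ring.jacobson R, lam x ∈ Ring.jacobson R := fun x hx => by
    rw [Ring.jacobson_eq_sInf_isMaximal, Submodule.mem_sInf] at hx ⊢
    intro (N : Ideal R) hN
    haveI : Ideal.IsMaximal N := hN
    haveI : (Ideal.comap lam N).IsMaximal := Ideal.comap_isMaximal_of_surjective _ lam.surjective
    exact hx (Ideal.comap lam N) ‹_›
  have hmax : ∀ s : S, algebraMap S R s ∈ Ring.jacobson R → s ∈ IsLocalRing.maximalIdeal S := fun s hs => by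
    rw [Ring.jacobson_eq_sInf_isMaximal, Submodule.mem_sInf] at hs
    haveI := hM₀
    rw [← comap_eq hlam hS M₀]
    exact hs M₀ hM₀
  obtain ⟨w, hw⟩ := (h2.map (algebraMap S R)).exists_left_inv
  rw [map_ofNat] at hw
  rw [pow_two, Ideal.mul_le]
  intro x hx y hy
  obtain ⟨t, ht⟩ := exists_sum hlam hS x
  obtain ⟨t', ht'⟩ := exists_sum hlam hS y
  obtain ⟨n, hn⟩ := (hS.2 ((x - lam x) * (y - lam y))).1 (by rw [map_mul, map_sub, map_sub, hlam, hlam]; ring)
  have ht1 : t ∈ IsLocalRing.maximalIdeal S := hmax t (ht ▸ add_mem hx (hlamJ x hx))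
  have ht2 : t' ∈ IsLocalRing.maximalIdeal S := hmax t' (ht' ▸ add_mem hy (hlamJ y hy))
  have hn1 : n ∈ IsLocalRing.maximalIdeal S :=
    hmax n (hn ▸ Ideal.mul_mem_right _ _ (sub_mem hx (hlamJ x hx)))
  have key : x * y = w * w * (algebraMap S R t * (y + y) + (x - lam x) * algebraMap S R t' + algebraMap S R n) := by
    rw [ht, ht', hn]
    linear_combination (-(x * y) * (w * 2 + 1)) * hw
  rw [key]
  exact Ideal.mul_mem_left _ _ (add_mem (add_mem (Ideal.mul_mem_right _ _ (Ideal.mem_map_of_mem _ ht1))
    (Ideal.mul_mem_left _ _ (Ideal.mem_map_of_mem _ ht2))) (Ideal.mem_map_of_mem _ hn1))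

end Local

section BaseChange

variable (T : Type w) [CommRing T] [Algebra S T]

/-- The base-changed involution. -/
noncomputable def mu (μ : R ≃ₐ[S] R) : (T ⊗[S] R) ≃ₐ[T] (T ⊗[S] R) :=
  Algebra.TensorProduct.congr (AlgEquiv.refl : T ≃ₐ[T] T) μ

@[simp] theorem mu_tmul (μ : R ≃ₐ[S] R) (t : T) (r : R) : mu T μ (t ⊗ₜ r) = t ⊗ₜ μ r := rfl

theorem mu_involutive (μ : R ≃ₐ[S] R) (h : Function.Involutive μ) : Function.Involutive (mu T μ) := fun z => by
  induction z using TensorProduct.induction_on with
  | zero => simp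
  | add x y hx hy => simp [hx, hy]
  | tmul t r => simp [h r]

theorem isFixedRing_bc (μ : R ≃ₐ[S] R) (hμ : Function.Involutive μ) (hS : RInv.IsFixedRing S R μ.toRingEquiv)
    (h : Module.Flat S T ∨ IsUnit (2 : S)) :
    RInv.IsFixedRing T (T ⊗[S] R) (mu T μ).toRingEquiv := by
  let ι : S →ₗ[S] R := Algebra.linearMap S R
  let d : R →ₗ[S] R := μ.toLinearMap - LinearMap.id
  have halg : ∀ t : T, algebraMap T (T ⊗[S] R) t = ι.lTensor T (t ⊗ₜ (1 : S)) := fun t => by
    show _ = t ⊗ₜ algebraMap S R 1
    rw [map_one]; rfl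
  have himg : ∀ z, ι.lTensor T z ∈ Set.range (algebraMap T (T ⊗[S] R)) := fun z => by
    induction z using TensorProduct.induction_on with
    | zero => exact ⟨0, by rw [map_zero, map_zero]⟩
    | add x y hx hy =>
      obtain ⟨a, ha⟩ := hx
      obtain ⟨b, hb⟩ := hy
      exact ⟨a + b, by rw [map_add, map_add, ha, hb]⟩
    | tmul t s => exact ⟨s • t, by rw [halg, TensorProduct.smul_tmul, smul_eq_mul, mul_one]⟩
  have hd : ∀ z, d.lTensor T z = mu T μ z - z := fun z => by
    induction z using TensorProduct.induction_on with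
    | zero => simp
    | add x y hx hy => simp only [map_add, hx, hy]; abel
    | tmul t r => simp [d, TensorProduct.tmul_sub]
  have hfix : ∀ t : T, mu T μ (algebraMap T (T ⊗[S] R) t) = algebraMap T (T ⊗[S] R) t := (mu T μ).commutes
  have hexact : Function.Exact ι d := fun r =>
    ⟨fun h => (hS.2 r).1 (sub_eq_zero.1 h), fun ⟨c, hc⟩ => by subst hc; simp [d, ι]⟩
  have hinjι : Function.Injective (fun t : T => ι.lTensor T (t ⊗ₜ (1 : S))) ∧
      ∀ z, mu T μ z = z → z ∈ Set.range (algebraMap T (T ⊗[S] R)) := by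
    rcases h with hflat | h2
    · refine ⟨(Module.Flat.lTensor_preserves_injective_linearMap ι hS.1).comp (fun a b hab => (TensorProduct.rid S T).symm.injective (by simpa using hab)), fun z hz => ?_⟩
      obtain ⟨w, hw⟩ := (Module.Flat.lTensor_exact T hexact z).1 (by rw [hd, hz, sub_self])
      exact hw ▸ himg w
    · obtain ⟨w, hw⟩ := h2.exists_left_inv
      choose σ hσ using exists_sum (S := S) (lam := μ.toRingEquiv) hμ hS
      let π : R →ₗ[S] S :=
        { toFun := fun r => w * σ r
          map_add' := fun a b => by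
            rw [← mul_add]; congr 1
            exact hS.1 (by rw [map_add, hσ, hσ, hσ, map_add]; ring)
          map_smul' := fun c a => by
            rw [RingHom.id_apply, smul_eq_mul, mul_left_comm]; congr 1
            refine hS.1 ?_
            rw [map_mul, hσ, hσ, Algebra.smul_def, map_mul, lam_algebraMap hS]; ring }
      have hπ : π ∘ₗ ι = LinearMap.id := LinearMap.ext fun s => by
        show w * σ (algebraMap S R s) = s
        rw [show σ (algebraMap S R s) = 2 * s from hS.1 (by rw [hσ, lam_algebraMap hS, map_mul, map_ofNat]; ring),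
          ← mul_assoc, hw, one_mul]
      refine ⟨fun a b hab => ?_, fun z hz => ?_⟩
      · have := congrArg (π.lTensor T) hab
        rw [← LinearMap.lTensor_comp_apply, ← LinearMap.lTensor_comp_apply, hπ, LinearMap.lTensor_id] at this
        exact (TensorProduct.rid S T).symm.injective (by simpa using this)
      · have hsum : ∀ y, (ι ∘ₗ π).lTensor T y = w • (y + mu T μ y) := fun y => by
          induction y using TensorProduct.induction_on with
          | zero => simp
          | add x y hx hy => rw [map_add, hx, hy, map_add, ← smul_add]; abel_nf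
          | tmul t r =>
            rw [LinearMap.lTensor_tmul, mu_tmul, ← TensorProduct.tmul_add, ← TensorProduct.tmul_smul]
            congr 1
            show algebraMap S R (w * σ r) = _
            rw [map_mul, hσ, Algebra.smul_def]; rfl
        have := hsum z
        rw [hz, ← two_smul S z, smul_smul, hw, one_smul, LinearMap.lTensor_comp_apply] at this
        exact this ▸ himg _
  refine ⟨fun a b hab => hinjι.1 (by simpa only [halg] using hab), fun z => ⟨hinjι.2 z, ?_⟩⟩
  rintro ⟨t, rfl⟩
  exact hfix t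

theorem quadEtale_bc (μ : R ≃ₐ[S] R) (hμ : Function.Involutive μ) (hS : RInv.IsFixedRing S R μ.toRingEquiv)
    [Module.Flat S T] (r : R) (hr : IsUnit ((1 : T) ⊗ₜ[S] (r - μ r))) : RInv.IsQuadEtale T (T ⊗[S] R) :=
  quadEtale_of_unit (lam := (mu T μ).toRingEquiv) (mu_involutive T μ hμ) (isFixedRing_bc T μ hμ hS (Or.inl inferInstance))
    ⟨(1 : T) ⊗ₜ[S] r, by
      show IsUnit ((1 : T) ⊗ₜ[S] r - mu T μ ((1 : T) ⊗ₜ[S] r))
      rwa [mu_tmul, ← TensorProduct.tmul_sub]⟩

end BaseChange

section Locus

/-- The primes where a difference avoids every prime above. -/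
def Good (S : Type u) {R : Type v} [CommRing S] [CommRing R] [Algebra S R] (lam : R ≃+* R) (p : Ideal S) : Prop :=
  ∃ r : R, ∀ q : Ideal R, q.IsPrime → q.comap (algebraMap S R) = p → r - lam r ∉ q

include hlam hS in
theorem exists_away {p : Ideal S} [p.IsPrime] (h : Good S lam p) : ∃ s : S, s ∉ p ∧
    RInv.IsQuadEtale (Localization.Away s) (Localization.Away s ⊗[S] R) := by
  obtain ⟨r, hr⟩ := h
  obtain ⟨σ, hσ⟩ := exists_prod hlam hS (r - lam r)
  refine ⟨σ, fun hp => ?_, ?_⟩
  · haveI := isIntegral hlam hS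
    obtain ⟨q, hq, hqp⟩ := Ideal.exists_ideal_over_prime_of_isIntegral (S := R) p (⊥ : Ideal R)
      (by rw [← RingHom.ker_eq_comap_bot, (RingHom.injective_iff_ker_eq_bot _).1 hS.1]; exact bot_le)
    rcases (hqp.1).mem_or_mem (show (r - lam r) * lam (r - lam r) ∈ q by
      rw [← hσ]; exact Ideal.mem_comap.1 (hqp.2.ge hp)) with hh | hh
    · exact hr q hqp.1 hqp.2 hh
    · rw [map_sub, hlam, ← neg_sub] at hh
      exact hr q hqp.1 hqp.2 (neg_mem_iff.1 hh)
  · refine quadEtale_bc _ (lamAlg hS) hlam hS r ?_
    refine isUnit_of_mul_isUnit_left (y := (1 : Localization.Away σ) ⊗ₜ[S] lam (r - lam r)) ?_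
    rw [Algebra.TensorProduct.tmul_mul_tmul, one_mul, show (r - lamAlg hS r) = r - lam r from rfl, ← hσ,
      ← Algebra.TensorProduct.tmul_one_eq_one_tmul]
    exact (IsLocalization.Away.algebraMap_isUnit σ).map (algebraMap (Localization.Away σ) _)

include hlam hS in
theorem quadEtale_atPrime (p : Ideal S) [p.IsPrime] (h : Good S lam p) :
    RInv.IsQuadEtale (Localization.AtPrime p) (Localization.AtPrime p ⊗[S] R) := by
  obtain ⟨r, hr⟩ := h
  obtain ⟨σ, hσ⟩ := exists_prod hlam hS (r - lam r)
  refine quadEtale_bc _ (lamAlg hS) hlam hS r ?_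
  haveI := isIntegral hlam hS
  by_contra hu
  obtain ⟨M, hM, hMu⟩ := exists_max_ideal_of_mem_nonunits hu
  haveI := hM
  haveI : Algebra.IsIntegral (Localization.AtPrime p) (Localization.AtPrime p ⊗[S] R) := inferInstance
  have h1 := IsLocalRing.eq_maximalIdeal (Ideal.isMaximal_comap_of_isIntegral_of_isMaximal (R := Localization.AtPrime p) M)
  let q := M.comap (Algebra.TensorProduct.includeRight : R →ₐ[S] Localization.AtPrime p ⊗[S] R).toRingHom
  refine hr q inferInstance ?_ hMu
  rw [Ideal.comap_comap, show (Algebra.TensorProduct.includeRight : R →ₐ[S] Localization.AtPrime p ⊗[S] R).toRingHom.comp (algebraMap S R) =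
      algebraMap S (Localization.AtPrime p ⊗[S] R) from RingHom.ext fun c => AlgHom.commutes (Algebra.TensorProduct.includeRight : R →ₐ[S] Localization.AtPrime p ⊗[S] R) c,
    IsScalarTower.algebraMap_eq S (Localization.AtPrime p), ← Ideal.comap_comap, h1]
  exact Localization.AtPrime.comap_maximalIdeal

include hlam hS in
theorem not_quadEtale_atPrime {p : Ideal S} [p.IsPrime] {q : Ideal R} [q.IsPrime]
    (hqp : q.comap (algebraMap S R) = p) (hq : ∀ r : R, lam r - r ∈ q) :
    ¬ RInv.IsQuadEtale (Localization.AtPrime p) (Localization.AtPrime p ⊗[S] R) := fun hQ => by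
  let T := Localization.AtPrime p
  obtain ⟨z, hz⟩ := exists_unit_diff_of_quadEtale (mu_involutive T (lamAlg hS) hlam)
    (isFixedRing_bc T (lamAlg hS) hlam hS (Or.inl inferInstance)) hQ
  let ψ : R →ₐ[S] q.ResidueField := IsScalarTower.toAlgHom S R q.ResidueField
  let φ : T →ₐ[S] q.ResidueField := IsLocalization.liftAlgHom (M := p.primeCompl) (f := Algebra.ofId S q.ResidueField) fun s => by
    show IsUnit (algebraMap S q.ResidueField (s : S))
    rw [IsScalarTower.algebraMap_apply S R, isUnit_iff_ne_zero, ne_eq, Ideal.algebraMap_residueField_eq_zero]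
    exact fun h => s.2 (hqp ▸ h)
  let Φ := Algebra.TensorProduct.lift φ ψ (fun _ _ => Commute.all _ _)
  have key : ∀ y : T ⊗[S] R, Φ (mu T (lamAlg hS) y) = Φ y := fun y => by
    induction y using TensorProduct.induction_on with
    | zero => simp
    | add a b ha hb => simp [ha, hb]
    | tmul t r =>
      rw [mu_tmul, Algebra.TensorProduct.lift_tmul, Algebra.TensorProduct.lift_tmul]
      congr 1
      rw [← sub_eq_zero, ← map_sub]
      exact Ideal.algebraMap_residueField_eq_zero.2 (hq r)
  have := hz.map Φ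
  rw [map_sub] at this
  rw [show Φ ((mu T (lamAlg hS)).toRingEquiv z) = Φ z from key z, sub_self] at this
  exact not_isUnit_zero this

include hlam hS in
theorem not_quadEtale_iff (p : PrimeSpectrum S) :
    ¬ RInv.IsQuadEtale (Localization.AtPrime p.asIdeal) (Localization.AtPrime p.asIdeal ⊗[S] R) ↔
      ∃ q : PrimeSpectrum R, q.asIdeal.comap (algebraMap S R) = p.asIdeal ∧
        (∀ q' : PrimeSpectrum R, q'.asIdeal.comap (algebraMap S R) = p.asIdeal → q' = q) ∧
        ∀ r : R, lam r - r ∈ q.asIdeal := by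
  constructor
  · intro h
    haveI := isIntegral hlam hS
    obtain ⟨q, -, hq, hqp⟩ := Ideal.exists_ideal_over_prime_of_isIntegral (S := R) p.asIdeal (⊥ : Ideal R)
      (by rw [← RingHom.ker_eq_comap_bot, (RingHom.injective_iff_ker_eq_bot _).1 hS.1]; exact bot_le)
    haveI := hq
    have hall : ∀ r : R, lam r - r ∈ q := fun r => by_contra fun hr => by
      obtain ⟨a, ha⟩ := exists_diff_notMem hlam hS q hr
      exact h (quadEtale_atPrime hlam hS p.asIdeal ⟨a, fun q' hq' e => ha q' hq' (e.trans hqp.symm)⟩)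
    refine ⟨⟨q, hq⟩, hqp, fun q' hq' => PrimeSpectrum.ext ?_, hall⟩
    rcases eq_or_eq hlam hS q q'.asIdeal (hqp.trans hq'.symm) with e | e
    · exact e
    · refine e.trans (Ideal.ext fun x => ?_)
      rw [Ideal.mem_comap]
      exact ⟨fun hx => by simpa using q.sub_mem hx (hall x), fun hx => by simpa using q.add_mem (hall x) hx⟩
  · rintro ⟨q, hqp, -, hall⟩
    exact not_quadEtale_atPrime hlam hS hqp hall

include hlam hS in
theorem good_of_quadEtale (p : PrimeSpectrum S)
    (h : RInv.IsQuadEtale (Localization.AtPrime p.asIdeal) (Localization.AtPrime p.asIdeal ⊗[S] R)) :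
    Good S lam p.asIdeal := by
  haveI := isIntegral hlam hS
  obtain ⟨q, -, hq, hqp⟩ := Ideal.exists_ideal_over_prime_of_isIntegral (S := R) p.asIdeal (⊥ : Ideal R)
    (by rw [← RingHom.ker_eq_comap_bot, (RingHom.injective_iff_ker_eq_bot _).1 hS.1]; exact bot_le)
  haveI := hq
  obtain ⟨r, hr⟩ : ∃ r, lam r - r ∉ q := by
    by_contra hc
    push_neg at hc
    exact not_quadEtale_atPrime hlam hS hqp hc h
  obtain ⟨a, ha⟩ := exists_diff_notMem hlam hS q hr
  exact ⟨a, fun q' hq' e => ha q' hq' (e.trans hqp.symm)⟩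

include hlam hS in
theorem map_sub_mem_radical (W : Set (PrimeSpectrum S))
    (hW : W = {p : PrimeSpectrum S | ¬ RInv.IsQuadEtale (Localization.AtPrime p.asIdeal) (Localization.AtPrime p.asIdeal ⊗[S] R)})
    (r : R) : lam r - r ∈ ((PrimeSpectrum.vanishingIdeal W).map (algebraMap S R)).radical := by
  rw [Ideal.radical_eq_sInf, Submodule.mem_sInf]
  rintro (q : Ideal R) ⟨hq, hqp⟩
  haveI : Ideal.IsPrime q := hqp
  by_contra hr
  obtain ⟨a, ha⟩ := exists_diff_notMem hlam hS q hr
  obtain ⟨s, hs⟩ := exists_prod hlam hS (a - lam a)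
  have hsW : s ∈ PrimeSpectrum.vanishingIdeal W := by
    rw [PrimeSpectrum.mem_vanishingIdeal]
    intro p hp
    rw [hW] at hp
    obtain ⟨q', hq', -, hall⟩ := (not_quadEtale_iff hlam hS p).1 hp
    rw [← hq', Ideal.mem_comap, hs]
    exact Ideal.mul_mem_right _ _ (by rw [← neg_sub]; exact neg_mem (hall a))
  have := hq (Ideal.mem_map_of_mem _ hsW)
  rw [hs] at this
  rcases Ideal.IsPrime.mem_or_mem ‹_› this with hh | hh
  · exact ha q ‹_› rfl hh
  · rw [map_sub, hlam, ← neg_sub] at hh
    exact ha q ‹_› rfl (neg_mem_iff.1 hh)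

end Locus

end Groth.Agent.RInvQ
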